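import Groth.Agent.OrdSurf.K841.EndA
import Groth.Agent.CycB.ModStalk
import Groth.Agent.Ega2.QCohLocal
import Groth.Agent.PerfA.CohSerre

/-!
# Nonzero endomorphisms of invertible modules on proper integral schemes over a field
-/

set_option autoImplicit false
universe u
open CategoryTheory CategoryTheory.Limits AlgebraicGeometry TopologicalSpace Opposite

namespace K841.InvEnd

open K841.StalkA Groth.Agent.CycB.StalkExact

section Mono

variable {X : Scheme.{u}} [IsIntegral X]

/-- Nonzero morphisms of torsion-free quasi-coherent modules with simple generic stalk are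
monomorphisms. -/
theorem mono_of_ne_zero {M N : X.Modules} (hM : Coh.IsQCoh M) (hMt : TorSh.IsTorsionFree M)
    (hN : Coh.IsQCoh N) (hNt : TorSh.IsTorsionFree N)
    (hMη : IsSimpleModule (X.presheaf.stalk (genericPoint X)) (M.presheaf.stalk (genericPoint X)))
    (ψ : M ⟶ N) (hψ : ψ ≠ 0) : Mono ψ := by
  have h1 : Function.Injective (stalkLin ψ (genericPoint X)) := by
    refine (LinearMap.injective_or_eq_zero _).resolve_right fun h => hψ ?_
    apply Scheme.Modules.hom_ext
    intro U
    ext m
    refine K841.TorGen.eq_zero hN hNt (ψ.app U m) fun hη => ?_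
    rw [← stalkLin_germ, h]
    rfl
  have h2 : ∀ U : X.Opens, Function.Injective (ψ.app U) := by
    intro U
    rw [injective_iff_map_eq_zero]
    intro m hm
    refine K841.TorGen.eq_zero hM hMt m fun hη => ?_
    apply h1
    rw [stalkLin_germ, hm, map_zero, map_zero]
  have h3 : Mono ((SheafOfModules.forget X.ringCatSheaf).map ψ) :=
    PresheafOfModules.mono_of_injective fun U => h2 U.unop
  exact (SheafOfModules.forget X.ringCatSheaf).mono_of_mono_map h3

theorem isTorsionFree_of_isInvertible {L : X.Modules} (hL : PicF.IsInvertible L) :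
    TorSh.IsTorsionFree L := by
  intro x
  obtain ⟨t, ht⟩ := Groth.Agent.CycB.ModStalk.exists_isGen hL x
  let e : X.presheaf.stalk x ≃ₗ[X.presheaf.stalk x] L.presheaf.stalk x :=
    LinearEquiv.ofBijective (LinearMap.toSpanSingleton _ _ t) ht
  constructor
  intro r hr a b hab
  apply e.symm.injective
  apply hr.left
  change r • e.symm a = r • e.symm b
  rw [← map_smul, ← map_smul]
  exact congrArg e.symm hab

theorem isSimpleModule_of_isInvertible {L : X.Modules} (hL : PicF.IsInvertible L) :
    IsSimpleModule (X.presheaf.stalk (genericPoint X)) (L.presheaf.stalk (genericPoint X)) := by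
  obtain ⟨t, ht⟩ := Groth.Agent.CycB.ModStalk.exists_isGen hL (genericPoint X)
  let e : X.presheaf.stalk (genericPoint X) ≃ₗ[X.presheaf.stalk (genericPoint X)]
      L.presheaf.stalk (genericPoint X) :=
    LinearEquiv.ofBijective (LinearMap.toSpanSingleton _ _ t) ht
  have h1 : IsSimpleModule X.functionField X.functionField := inferInstance
  have h2 : IsSimpleModule (X.presheaf.stalk (genericPoint X))
      (X.presheaf.stalk (genericPoint X)) := h1
  exact IsSimpleModule.congr e.symm

theorem isCoh_of_isInvertible {L : X.Modules} (hL : PicF.IsInvertible L) : Coh.IsCoh L :=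
  Groth.Agent.PerfA.CohSerre.isCoh_of_isFinLocFree (Groth.Agent.Ega2.QCohLocal.isFinLocFree_of_rank
    (Groth.Agent.Ega2.QCohLocal.isFinLocFreeOfRank_one_iff.mpr hL))

end Mono

section Iso

variable {X : Scheme.{u}} [IsIntegral X] {k : Type u} [Field k] (f : X ⟶ Spec (CommRingCat.of k))
  [IsProper f]

include f in
/-- Endomorphisms which are monomorphisms as soon as they do not vanish are isomorphisms as soon
as they do not vanish, for coherent modules on a proper scheme over a field. -/
theorem isIso_of_mono {M : SheafOfModules.{u} X.ringCatSheaf}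
    (hM : Coh.IsCoh (rs (𝟙 X.ringCatSheaf) M))
    (hmono : ∀ ψ : M ⟶ M, ψ ≠ 0 → Mono ψ) (ψ : M ⟶ M) (hψ : ψ ≠ 0) : IsIso ψ := by
  have hcen : ∀ (U : (Opens X)ᵒᵖ) (s : X.ringCatSheaf.obj.obj U) (a : X.ringCatSheaf.obj.obj U),
      (𝟙 X.ringCatSheaf : X.ringCatSheaf ⟶ X.ringCatSheaf).hom.app U s * a =
        a * (𝟙 X.ringCatSheaf : X.ringCatSheaf ⟶ X.ringCatSheaf).hom.app U s := by
    intro U s a
    exact mul_comm (G := X.presheaf.obj U) s a
  let := K841.EndA.alg (𝟙 X.ringCatSheaf) hcen M f
  have h1 : Module.Finite k (End M) := K841.EndA.finite_end (𝟙 X.ringCatSheaf) hcen M f hM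
  have hinj1 : Function.Injective (LinearMap.mulLeft k (show End M from ψ)) := by
    rw [injective_iff_map_eq_zero]
    intro χ hχ
    have h2 := hmono ψ hψ
    have h3 : (show M ⟶ M from χ) ≫ ψ = 0 := hχ
    exact (cancel_mono ψ).mp (h3.trans zero_comp.symm)
  have hinj2 : Function.Injective (LinearMap.mulRight k (show End M from ψ)) := by
    rw [injective_iff_map_eq_zero]
    intro χ hχ
    by_contra hne
    have h2 := hmono χ hne
    have h3 : ψ ≫ (show M ⟶ M from χ) = 0 := hχ
    exact hψ ((cancel_mono (show M ⟶ M from χ)).mp (h3.trans zero_comp.symm))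
  obtain ⟨χ, hχ⟩ := (LinearMap.injective_iff_surjective.mp hinj1) (1 : End M)
  obtain ⟨χ', hχ'⟩ := (LinearMap.injective_iff_surjective.mp hinj2) (1 : End M)
  have h4 : (show M ⟶ M from χ) ≫ ψ = 𝟙 M := hχ
  have h5 : ψ ≫ (show M ⟶ M from χ') = 𝟙 M := hχ'
  have h6 : (show M ⟶ M from χ) = (show M ⟶ M from χ') := by
    rw [← Category.comp_id (show M ⟶ M from χ), ← h5, ← Category.assoc, h4, Category.id_comp]
  exact ⟨(show M ⟶ M from χ), by rw [h6]; exact h5, h4⟩

include f in
/-- Nonzero endomorphisms of invertible modules are isomorphisms. -/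
theorem isIso_of_ne_zero {L : X.Modules} (hL : PicF.IsInvertible L) (ψ : L ⟶ L) (hψ : ψ ≠ 0) :
    IsIso ψ := by
  have hc := isCoh_of_isInvertible hL
  exact isIso_of_mono f (M := L) hc (fun ψ hψ => mono_of_ne_zero hc.1
    (isTorsionFree_of_isInvertible hL) hc.1 (isTorsionFree_of_isInvertible hL)
    (isSimpleModule_of_isInvertible hL) ψ hψ) ψ hψ

include f in
/-- If the identity of an invertible module is a sum of compositions through invertible modules,
then one of those is isomorphic to it. -/
theorem exists_iso_of_comp_ne_zero {L N : X.Modules} (hL : PicF.IsInvertible L)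
    (hN : PicF.IsInvertible N) (i : L ⟶ N) (p : N ⟶ L) (h : i ≫ p ≠ 0) : Nonempty (L ≅ N) := by
  have h1 : IsIso (i ≫ p) := isIso_of_ne_zero f hL _ h
  have h2 : p ≫ i ≠ 0 := by
    intro h0
    apply h
    have h3 : (i ≫ p) ≫ (i ≫ p) = 0 := by
      rw [Category.assoc, ← Category.assoc p i p, h0, zero_comp, comp_zero]
    have h4 : i ≫ p = inv (i ≫ p) ≫ ((i ≫ p) ≫ (i ≫ p)) := by simp
    rw [h4, h3, comp_zero]
  have h3 : IsIso (p ≫ i) := isIso_of_ne_zero f hN _ h2
  have h4 : IsIso i := by
    have h5 : Mono i := mono_of_mono i p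
    have h6 : Epi i := epi_of_epi p i
    exact isIso_of_mono_of_epi i
  exact ⟨asIso i⟩

end Iso

end K841.InvEnd
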