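import Groth.Agent.Divis.ReflexAlg

/-!
# Kernels of maps from free modules onto torsion-free modules over a two-dimensional regular ring
-/

set_option autoImplicit false

namespace K841.FreeKer

open IsLocalRing Groth.Agent.Divis.DepthTwo Groth.Agent.Divis.ReflexAlg

/-- A finite torsion-free module over a regular local ring of dimension at most two on which every
pair regular on the ring is regular is free. -/
theorem free_of_regPair {R : Type*} [CommRing R] [IsRegularLocalRing R]
    (h : ringKrullDim R ≤ 2) (M : Type*) [AddCommGroup M] [Module R M] [Module.Finite R M]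
    (htf0 : Module.IsTorsionFree R M)
    (hpairs : ∀ a b : R, RegPair a b R → RegPair a b M) : Module.Free R M := by
  have := Groth.Agent.CalgA.RegBasic.isDomain R
  rcases le_or_gt (ringKrullDim R) 1 with h1 | h1
  · exact free_of_isTorsionFree h1 M
  -- `R` is of dimension two
  have hm : maximalIdeal R ≠ ⊥ := by
    intro hm
    have h2 : ringKrullDim R ≤ 1 := by
      rw [← IsRegularLocalRing.spanFinrank_maximalIdeal (R := R),
        (Submodule.spanFinrank_eq_zero_iff_eq_bot (maximalIdeal R).fg_of_isNoetherianRing).mpr hm]
      exact_mod_cast zero_le_one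
    exact absurd h1 (not_lt.mpr h2)
  obtain ⟨x, hx, hx2, -⟩ := Groth.Agent.CalgA.RegBasic.exists_notMem_sq_notMem_minimalPrimes
    (R := R) ∅ Set.finite_empty (by simp) (by simp) hm
  have hx0 : x ≠ 0 := by
    rintro rfl
    exact hx2 (zero_mem _)
  obtain ⟨hreg, hdim⟩ := Groth.Agent.CalgA.RegBasic.quotient_of_notMem_sq x hx hx2
  have hdim1 : ringKrullDim (R ⧸ Ideal.span {x}) ≤ 1 := by
    rw [← ENat.WithBot.add_le_add_one_right_iff, hdim]
    exact h
  have hreg' : IsSMulRegular M x := by
    have : Module.IsTorsionFree R M := inferInstance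
    exact this.isSMulRegular (IsRegular.of_ne_zero hx0)
  have hfp := Module.finitePresentation_of_finite R M
  rw [← Module.free_quotSMulTop_iff_free R M (x := x)
    (by rw [IsLocalRing.jacobson_eq_maximalIdeal ⊥ bot_ne_top]; exact hx) hreg']
  have hfin := Module.Finite.of_restrictScalars_finite R (R ⧸ Ideal.span {x}) (QuotSMulTop x M)
  have hdom := Groth.Agent.CalgA.RegBasic.isDomain (R ⧸ Ideal.span {x})
  have hprime : (Ideal.span {x}).IsPrime := (Ideal.Quotient.isDomain_iff_prime _).mp hdom
  have htf : Module.IsTorsionFree (R ⧸ Ideal.span {x}) (QuotSMulTop x M) := by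
    constructor
    intro r hr
    obtain ⟨r, rfl⟩ := Ideal.Quotient.mk_surjective r
    have hrx : r ∉ Ideal.span {x} := by
      intro hrx
      rw [Ideal.Quotient.eq_zero_iff_mem.mpr hrx] at hr
      exact hr.ne_zero rfl
    have hpair : RegPair x r R := by
      refine ⟨fun y hy => ?_, fun y z hyz => ?_⟩
      · simpa [hx0] using hy
      · have h3 : r * y ∈ Ideal.span {x} := by
          rw [Ideal.mem_span_singleton']
          exact ⟨z, by rw [← smul_eq_mul r y, hyz, smul_eq_mul, mul_comm]⟩
        have h4 := (hprime.mem_or_mem h3).resolve_left hrx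
        rw [Ideal.mem_span_singleton'] at h4
        obtain ⟨k, hk⟩ := h4
        exact ⟨k, by rw [← hk, smul_eq_mul, mul_comm]⟩
    have hpair' : RegPair x r M := hpairs _ _ hpair
    rw [isSMulRegular_iff_right_eq_zero_of_smul]
    intro m
    obtain ⟨m, rfl⟩ := Submodule.mkQ_surjective _ m
    intro hm
    change (Ideal.Quotient.mk (Ideal.span {x}) r) • (Submodule.Quotient.mk m : QuotSMulTop x M) = 0
      at hm
    have hm' : (Submodule.Quotient.mk (r • m) : QuotSMulTop x M) = 0 := hm
    rw [Submodule.Quotient.mk_eq_zero, Submodule.mem_smul_pointwise_iff_exists] at hm'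
    obtain ⟨n, -, hn⟩ := hm'
    obtain ⟨z, hz⟩ := hpair'.div m n hn.symm
    rw [Submodule.mkQ_apply, Submodule.Quotient.mk_eq_zero, Submodule.mem_smul_pointwise_iff_exists]
    exact ⟨z, trivial, hz.symm⟩
  exact free_of_isTorsionFree hdim1 _

/-- The kernel of a map from a finite free module to a torsion-free module over a regular local
ring of dimension at most two is free. -/
theorem free_of_exact {R : Type*} [CommRing R] [IsRegularLocalRing R]
    (h : ringKrullDim R ≤ 2) {K M N : Type*} [AddCommGroup K] [Module R K] [AddCommGroup M]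
    [Module R M] [AddCommGroup N] [Module R N] [Module.Finite R K] [Module.Finite R M]
    [Module.Free R M] [Module.IsTorsionFree R N] (i : K →ₗ[R] M) (p : M →ₗ[R] N)
    (hi : Function.Injective i) (hip : Function.Exact i p) : Module.Free R K := by
  have := Groth.Agent.CalgA.RegBasic.isDomain R
  have hKtf : Module.IsTorsionFree R K := by
    constructor
    intro r hr x y hxy
    apply hi
    apply (Module.IsTorsionFree.isSMulRegular (M := M) hr)
    change r • i x = r • i y
    rw [← map_smul, ← map_smul]
    exact congrArg i hxy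
  refine free_of_regPair h K hKtf fun a b hab => ⟨fun x hx => ?_, fun x y hxy => ?_⟩
  · have ha : a ≠ 0 := by
      rintro rfl
      exact one_ne_zero (hab.inj 1 (by simp))
    exact (smul_eq_zero.mp hx).resolve_left ha
  · have ha : a ≠ 0 := by
      rintro rfl
      exact one_ne_zero (hab.inj 1 (by simp))
    have hM : RegPair a b M := regPair_of_isReflexive hab
    obtain ⟨z, hz⟩ := hM.div (i x) (i y) (by rw [← map_smul, hxy, map_smul])
    have hz0 : p z = 0 := by
      have h1 : p (i x) = 0 := hip.apply_apply_eq_zero x
      rw [hz, map_smul] at h1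
      exact (smul_eq_zero.mp h1).resolve_left ha
    obtain ⟨w, rfl⟩ := (hip z).mp hz0
    exact ⟨w, hi (by rw [hz, map_smul])⟩

end K841.FreeKer
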