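import Groth.Agent.OrdSurf.K841.Simple
import Groth.Agent.CohqB.HomSheafCoh
import Groth.Agent.CohqB.FinTheoryInst
import Mathlib.FieldTheory.IsAlgClosed.Basic

/-!
# Endomorphisms of torsion-free modules with simple generic stalk
-/

set_option autoImplicit false
universe u
open CategoryTheory CategoryTheory.Limits AlgebraicGeometry TopologicalSpace Opposite

namespace K841.EndA

open K841.StalkA

variable {X : Scheme.{u}} {A : Sheaf (Opens.grothendieckTopology X) RingCat.{u}}
  (φ : X.ringCatSheaf ⟶ A)
  (hcen : ∀ (U : (Opens X)ᵒᵖ) (s : X.ringCatSheaf.obj.obj U) (a : A.obj.obj U),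
      φ.hom.app U s * a = a * φ.hom.app U s)
  (M : SheafOfModules.{u} A)

/-- The restriction of a global function, as a section of `A`. -/
noncomputable def glob (U : (Opens X)ᵒᵖ) : Γ(X, ⊤) →+* A.obj.obj U :=
  (φ.hom.app U).hom.comp (X.presheaf.map (homOfLE (le_top (a := U.unop))).op).hom

theorem glob_apply (U : (Opens X)ᵒᵖ) (r : Γ(X, ⊤)) : glob φ U r =
    φ.hom.app U ((X.presheaf.map (homOfLE (le_top (a := U.unop))).op) r) := rfl

theorem map_glob {U V : (Opens X)ᵒᵖ} (i : U ⟶ V) (r : Γ(X, ⊤)) :
    A.obj.map i (glob φ U r) = glob φ V r := by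
  rw [glob_apply, glob_apply]
  have h1 := ConcreteCategory.congr_hom (φ.hom.naturality i)
    ((X.presheaf.map (homOfLE (le_top (a := U.unop))).op) r)
  refine Eq.trans h1.symm ?_
  refine congrArg (φ.hom.app V) ?_
  change (X.presheaf.map i) ((X.presheaf.map (homOfLE (le_top (a := U.unop))).op) r) = _
  rw [← ConcreteCategory.comp_apply, ← Functor.map_comp]
  rfl

/-- Multiplication by a global function. -/
noncomputable def scal (r : Γ(X, ⊤)) : M ⟶ M where
  val :=
    { app := fun U => ModuleCat.ofHom
        { toFun := fun m => glob φ U r • m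
          map_add' := fun m n => smul_add _ _ _
          map_smul' := fun a m => by
            rw [smul_smul, RingHom.id_apply, smul_smul, glob_apply, hcen] }
      naturality := fun {U V} i => by
        ext m
        change glob φ V r • M.val.map i m = M.val.map i (glob φ U r • m)
        rw [PresheafOfModules.map_smul]
        exact congrArg (fun a : A.obj.obj V => a • M.val.map i m) (map_glob φ i r).symm }

theorem scal_app (r : Γ(X, ⊤)) (U : (Opens X)ᵒᵖ) (m : M.val.obj U) :
    ((scal φ hcen M r).val.app U).hom m = glob φ U r • m := rfl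

theorem hom_ext' {M N : SheafOfModules.{u} A} {f g : M ⟶ N}
    (h : ∀ (U : (Opens X)ᵒᵖ) (m : M.val.obj U), (f.val.app U).hom m = (g.val.app U).hom m) :
    f = g := by
  apply SheafOfModules.hom_ext
  apply PresheafOfModules.hom_ext
  intro U
  ext m
  exact h U m

/-- The structure map of the endomorphism ring. -/
noncomputable def scalHom : Γ(X, ⊤) →+* End M where
  toFun := scal φ hcen M
  map_one' := hom_ext' fun U m => by
    rw [scal_app, map_one, one_smul]; rfl
  map_mul' r s := hom_ext' fun U m => by
    rw [scal_app, map_mul, mul_smul]; rfl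
  map_zero' := hom_ext' fun U m => by
    rw [scal_app, map_zero, zero_smul]; rfl
  map_add' r s := hom_ext' fun U m => by
    rw [scal_app, map_add, add_smul]; rfl

theorem scalHom_comm (r : Γ(X, ⊤)) (ψ : End M) :
    scalHom φ hcen M r * ψ = ψ * scalHom φ hcen M r := by
  refine hom_ext' fun U m => ?_
  change glob φ U r • (ψ.val.app U).hom m = (ψ.val.app U).hom (glob φ U r • m)
  rw [map_smul]

/-- The forgetful map to the endomorphisms of the underlying module. -/
noncomputable def toSec (ψ : M ⟶ M) :
    Γ(Groth.Agent.CohqB.HomSheaf.homSheaf (rs φ M) (rs φ M), ⊤) :=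
  Groth.Agent.CohqB.HomSheaf.ofHom ((SheafOfModules.restrictScalars φ).map ψ) ⊤

theorem comp_toSec (ψ : M ⟶ M) (V : X.Opens) (hV : V ≤ ⊤) (m : M.val.obj (op V)) :
    Groth.Agent.CohqB.HomSheaf.comp (toSec φ M ψ) V hV m = (ψ.val.app (op V)).hom m := rfl

theorem toSec_injective : Function.Injective (toSec φ M) := by
  intro f g h
  refine hom_ext' fun U m => ?_
  rw [← comp_toSec φ M f U.unop le_top m, h]
  rfl

theorem toSec_add (f g : M ⟶ M) : toSec φ M (f + g) = toSec φ M f + toSec φ M g :=
  Groth.Agent.CohqB.HomSheaf.sec_ext fun V hV m => rfl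

theorem toSec_scal (r : Γ(X, ⊤)) (f : M ⟶ M) :
    toSec φ M (f ≫ scal φ hcen M r) = r • toSec φ M f :=
  Groth.Agent.CohqB.HomSheaf.sec_ext fun V hV m => rfl

section Field

variable {k : Type u} [Field k] (f : X ⟶ Spec (CommRingCat.of k))

open Groth.Agent.CohqB.AllFinAffine in
/-- The algebra structure on the endomorphism ring. -/
noncomputable abbrev alg : Algebra k (End M) :=
  ((scalHom φ hcen M).comp (toΓ f)).toAlgebra' fun c ψ => scalHom_comm φ hcen M _ ψ

open Groth.Agent.CohqB.AllFinAffine in
theorem finite_end [IsProper f] (hM : Coh.IsCoh (rs φ M)) :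
    letI := alg φ hcen M f
    Module.Finite k (End M) := by
  let := alg φ hcen M f
  have : IsLocallyNoetherian X := LocallyOfFiniteType.isLocallyNoetherian f
  let F : X.Modules := Groth.Agent.CohqB.HomSheaf.homSheaf (rs φ M) (rs φ M)
  have hF : Coh.IsCoh F := Groth.Agent.CohqB.HomSheaf.isCoh_homSheaf hM hM
  have h1 := Groth.Agent.CohqB.FinTheoryInst.allFin f F hF 0
  have h2 := (finH_zero_iff f F).mp h1
  let : Module k Γ(F, ⊤) := Module.compHom Γ(F, ⊤) (toΓ f)
  have h3 : Module.Finite k Γ(F, ⊤) := h2
  let L : End M →ₗ[k] Γ(F, ⊤) :=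
    { toFun := toSec φ M
      map_add' := toSec_add φ M
      map_smul' := fun c ψ => by
        rw [Algebra.smul_def, RingHom.id_apply]
        exact toSec_scal φ hcen M (toΓ f c) ψ }
  exact Module.Finite.of_injective L (toSec_injective φ M)

open Groth.Agent.CohqB.AllFinAffine in
/-- Schur's lemma for torsion-free modules with simple generic stalk. -/
theorem exists_scalar [IsAlgClosed k] [IsIntegral X] [IsProper f] (hM : Coh.IsCoh (rs φ M))
    (hMt : TorSh.IsTorsionFree (rs φ M))
    (hMη : IsSimpleModule (rst (T := X.carrier) A (genericPoint X))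
      (mst (T := X.carrier) M (genericPoint X))) (ψ : M ⟶ M) :
    ∃ c : k, ψ = scal φ hcen M (toΓ f c) := by
  let := alg φ hcen M f
  have h1 : Module.Finite k (End M) := finite_end φ hcen M f hM
  have hmono : ∀ ψ : End M, ψ ≠ 0 → Mono (show M ⟶ M from ψ) := fun ψ hψ =>
    K841.Simple.mono φ hM.1 hMt hM.1 hMt hMη ψ hψ
  have hne : Nontrivial (End M) := by
    refine ⟨⟨1, 0, fun h => ?_⟩⟩
    have h2 : Nontrivial (mst (T := X.carrier) M (genericPoint X)) := hMη.nontrivial
    obtain ⟨m, hm⟩ := exists_ne (0 : mst (T := X.carrier) M (genericPoint X))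
    apply hm
    obtain ⟨U, hx, s, rfl⟩ := exists_mgerm (T := X.carrier) M m
    have h3 : s = 0 := by
      have h4 : ((show M ⟶ M from (1 : End M)).val.app (op U)).hom s =
        ((show M ⟶ M from (0 : End M)).val.app (op U)).hom s := by rw [h]
      exact h4
    rw [h3]
    exact map_zero _
  have hnz : NoZeroDivisors (End M) := by
    refine ⟨fun {a b} hab => ?_⟩
    by_contra hcon
    push Not at hcon
    have h2 := hmono a hcon.1
    have h3 : (show M ⟶ M from b) ≫ (show M ⟶ M from a) = 0 := hab
    exact hcon.2 ((cancel_mono (show M ⟶ M from a)).mp (h3.trans zero_comp.symm))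
  have hdom : IsDomain (End M) := NoZeroDivisors.to_isDomain _
  have hint : Algebra.IsIntegral k (End M) := Algebra.IsIntegral.of_finite k (End M)
  obtain ⟨c, hc⟩ := (IsAlgClosed.algebraMap_bijective_of_isIntegral (k := k) (K := End M)).2 ψ
  exact ⟨c, hc.symm⟩

end Field

end K841.EndA
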