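import Mathlib.RingTheory.Flat.Stability
import Mathlib.RingTheory.TensorProduct.Basic
import Mathlib.LinearAlgebra.TensorProduct.Tower

/-!
# Extension of scalars along a central ring map, characterised by its universal property
-/

set_option autoImplicit false
universe u
open TensorProduct

namespace K841.ExtAlg

variable {R B : Type u} [CommRing R] [Ring B] {σ : R →+* B} (hσ : ∀ r b, σ r * b = b * σ r)
  {M N M' N' : Type u} [AddCommGroup M] [Module R M] [AddCommGroup N] [Module B N]
  [AddCommGroup M'] [Module R M'] [AddCommGroup N'] [Module B N']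

/-- The universal property of the extension of scalars. -/
structure IsExt (u : M →ₛₗ[σ] N) : Prop where
  ex : ∀ (Q : Type u) [AddCommGroup Q] [Module B Q] (p : M →ₛₗ[σ] Q),
    ∃ g : N →ₗ[B] Q, ∀ m, g (u m) = p m
  uniq : ∀ (Q : Type u) [AddCommGroup Q] [Module B Q] (g g' : N →ₗ[B] Q),
    (∀ m, g (u m) = g' (u m)) → g = g'

/-- The algebra structure. -/
abbrev alg : Algebra R B := σ.toAlgebra' hσ

/-- The comparison map from the tensor product. -/
noncomputable def kap (u : M →ₛₗ[σ] N) :
    letI := alg hσ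
    B ⊗[R] M →ₗ[B] N :=
  letI := alg hσ
  letI : Module R N := Module.compHom N σ
  haveI : IsScalarTower R B N := ⟨fun r b n => mul_smul (σ r) b n⟩
  haveI : SMulCommClass R B N := ⟨fun r b n => by
    change σ r • b • n = b • σ r • n
    rw [smul_smul, smul_smul, hσ]⟩
  TensorProduct.AlgebraTensorModule.lift
    (LinearMap.toSpanSingleton B (M →ₗ[R] N)
      { toFun := u, map_add' := map_add u, map_smul' := u.map_smulₛₗ })

theorem kap_tmul (u : M →ₛₗ[σ] N) (b : B) (m : M) :
    letI := alg hσ
    kap hσ u (b ⊗ₜ[R] m) = b • u m := by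
  let := alg hσ
  let : Module R N := Module.compHom N σ
  rfl

theorem IsExt.bijective {u : M →ₛₗ[σ] N} (h : IsExt u) : Function.Bijective (kap hσ u) := by
  let := alg hσ
  let p : M →ₛₗ[σ] (B ⊗[R] M) :=
    { toFun := fun m => (1 : B) ⊗ₜ[R] m
      map_add' := fun m n => TensorProduct.tmul_add _ _ _
      map_smul' := fun r m => by
        rw [TensorProduct.tmul_smul]
        exact (algebraMap_smul B r ((1 : B) ⊗ₜ[R] m)).symm }
  obtain ⟨g, hg⟩ := h.ex (B ⊗[R] M) p
  have h1 : g ∘ₗ kap hσ u = LinearMap.id := by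
    refine TensorProduct.AlgebraTensorModule.ext fun b m => ?_
    rw [LinearMap.comp_apply, kap_tmul, map_smul, hg]
    change b • ((1 : B) ⊗ₜ[R] m) = b ⊗ₜ[R] m
    rw [TensorProduct.smul_tmul', smul_eq_mul, mul_one]
  have h2 : kap hσ u ∘ₗ g = LinearMap.id := by
    refine h.uniq N _ _ fun m => ?_
    rw [LinearMap.comp_apply, hg]
    change kap hσ u ((1 : B) ⊗ₜ[R] m) = u m
    rw [kap_tmul, one_smul]
  exact ⟨fun a b hab => by
    have := congrArg g hab
    rwa [← LinearMap.comp_apply, ← LinearMap.comp_apply, h1] at this,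
    fun n => ⟨g n, LinearMap.congr_fun h2 n⟩⟩

/-- Compatible maps of extensions are tensor products. -/
theorem kap_naturality {u : M →ₛₗ[σ] N} {u' : M' →ₛₗ[σ] N'} (f : M →ₗ[R] M')
    (g : N →ₗ[B] N') (h : ∀ m, g (u m) = u' (f m)) (t : letI := alg hσ; B ⊗[R] M) :
    letI := alg hσ
    g (kap hσ u t) = kap hσ u' (TensorProduct.map (LinearMap.id : B →ₗ[R] B) f t) := by
  let := alg hσ
  induction t with
  | zero => simp
  | add a b ha hb => rw [map_add, map_add, ha, hb, map_add, map_add]
  | tmul b m =>
    rw [kap_tmul, map_smul, h]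
    exact (kap_tmul hσ u' b (f m)).symm

/-- Injectivity of extended maps. -/
theorem injective_of_flat {u : M →ₛₗ[σ] N} {u' : M' →ₛₗ[σ] N'} (hu : IsExt u) (hu' : IsExt u')
    (hB : letI := alg hσ; Module.Flat R B) (f : M →ₗ[R] M')
    (g : N →ₗ[B] N') (h : ∀ m, g (u m) = u' (f m)) (hf : Function.Injective f) :
    Function.Injective g := by
  let := alg hσ
  have h1 : Function.Injective (TensorProduct.map (LinearMap.id : B →ₗ[R] B) f) :=
    Module.Flat.lTensor_preserves_injective_linearMap (M := B) f hf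
  have hb := hu.bijective hσ
  have hb' := hu'.bijective hσ
  intro n n' hn
  obtain ⟨t, rfl⟩ := hb.2 n
  obtain ⟨t', rfl⟩ := hb.2 n'
  rw [kap_naturality hσ f g h, kap_naturality hσ f g h] at hn
  rw [h1 (hb'.1 hn)]

/-- Flatness of the extension. -/
theorem flat {u : M →ₛₗ[σ] N} (hu : IsExt u)
    (hB : letI := alg hσ; Module.Flat R B) (hM : Module.Flat R M) :
    letI : Module R N := Module.compHom N σ
    Module.Flat R N := by
  let := alg hσ
  let : Module R N := Module.compHom N σ
  have h1 : Module.Flat R (B ⊗[R] M) := inferInstance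
  let κ : (B ⊗[R] M) →ₗ[R] N :=
    { toFun := kap hσ u
      map_add' := map_add _
      map_smul' := fun r t => by
        rw [← algebraMap_smul B r t, map_smul]
        rfl }
  exact Module.Flat.of_linearEquiv (LinearEquiv.ofBijective κ (hu.bijective hσ)).symm

end K841.ExtAlg
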