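import Groth.Agent.OrdSurf.K841.ExtSheaf
import Groth.Agent.Divis.StalkMod
import Groth.Agent.PerfA.CohSerre
import Mathlib.Algebra.Category.ModuleCat.Sheaf.PullbackContinuous

/-!
# Extension of scalars exists, and is exact for finite locally free algebras
-/

set_option autoImplicit false
universe u
open CategoryTheory CategoryTheory.Limits AlgebraicGeometry TopologicalSpace Opposite

namespace K841.ExtFree

open K841.StalkA

variable {X : Scheme.{u}} {A : Sheaf (Opens.grothendieckTopology X) RingCat.{u}}
  (φ : X.ringCatSheaf ⟶ A)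

theorem isFlat_of_isFinLocFree {M : X.Modules} (h : FlatMod.IsFinLocFree M) : FlatMod.IsFlat M := by
  intro x
  obtain ⟨h1, h2⟩ := Groth.Agent.Divis.StalkMod.finite_free_stalk
    (Groth.Agent.PerfA.CohSerre.isCoh_of_isFinLocFree h).1 h x
  exact (inferInstance : Module.Flat (X.presheaf.stalk x) (M.presheaf.stalk x))

theorem isRightAdjoint : (SheafOfModules.restrictScalars.{u} φ).IsRightAdjoint :=
  inferInstanceAs (SheafOfModules.pushforward.{u} (F := 𝟭 (Opens X)) (S := X.ringCatSheaf)
    (R := A) φ).IsRightAdjoint

end K841.ExtFree
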