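import Groth.Agent.OrdSurf.K841.StalkA
import Mathlib.Algebra.Module.Projective

/-!
# The stalk of the unit module, and the algebra structure on stalks
-/

set_option autoImplicit false
universe u
open CategoryTheory CategoryTheory.Limits AlgebraicGeometry TopologicalSpace Opposite

namespace K841.StalkUnit

open K841.StalkA

section Top

variable {T : TopCat.{u}} (A : Sheaf (Opens.grothendieckTopology T) RingCat.{u}) (x : T)

/-- The comparison of the stalk of the ring sheaf and of the unit module. -/
noncomputable def unitLin : rst A x →ₗ[rst A x] mst (SheafOfModules.unit A) x :=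
  LinearMap.toSpanSingleton _ _ (mgerm (SheafOfModules.unit A) (U := ⊤) (x := x) trivial
    (1 : A.obj.obj (op ⊤)))

theorem unitLin_rgerm {U : Opens T} (hx : x ∈ U) (a : A.obj.obj (op U)) :
    unitLin A x (rgerm A hx a) = mgerm (SheafOfModules.unit A) hx a := by
  rw [unitLin, LinearMap.toSpanSingleton_apply]
  have h1 := mgerm_res (SheafOfModules.unit A) hx (le_top : U ≤ ⊤) (1 : A.obj.obj (op ⊤))
  rw [← h1, ← mgerm_smul]
  congr 1
  have h2 : (SheafOfModules.unit A).val.presheaf.map (homOfLE (le_top : U ≤ ⊤)).op
    (1 : A.obj.obj (op ⊤)) = (1 : A.obj.obj (op U)) :=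
    map_one (A.obj.map (homOfLE (le_top : U ≤ ⊤)).op).hom
  rw [h2]
  exact mul_one a

theorem unitLin_bijective : Function.Bijective (unitLin A x) := by
  constructor
  · rw [injective_iff_map_eq_zero]
    intro b hb
    obtain ⟨U, hU, a, rfl⟩ := exists_rgerm b
    rw [unitLin_rgerm] at hb
    have h0 : mgerm (SheafOfModules.unit A) hU (0 : (SheafOfModules.unit A).val.obj (op U)) = 0 :=
      map_zero _
    obtain ⟨W, hW, i, j, hij⟩ := TopCat.Presheaf.germ_eq (X := T)
      (SheafOfModules.unit A).val.presheaf x hU hU a 0 (hb.trans h0.symm)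
    have h1 : A.obj.map i.op a = 0 := by
      refine Eq.trans (b := (SheafOfModules.unit A).val.presheaf.map i.op a) rfl ?_
      rw [hij]
      exact map_zero _
    have h2 := TopCat.Presheaf.germ_res_apply (X := T) A.obj i x hW a
    refine h2.symm.trans ?_
    rw [h1]
    exact map_zero _
  · intro m
    obtain ⟨U, hU, a, rfl⟩ := exists_mgerm (SheafOfModules.unit A) m
    exact ⟨rgerm A hU a, unitLin_rgerm A x hU a⟩

/-- The comparison as a linear equivalence. -/
noncomputable def unitEquiv : rst A x ≃ₗ[rst A x] mst (SheafOfModules.unit A) x :=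
  LinearEquiv.ofBijective _ (unitLin_bijective A x)

end Top

section Scheme

variable {X : Scheme.{u}} {A : Sheaf (Opens.grothendieckTopology X) RingCat.{u}}
  (φ : X.ringCatSheaf ⟶ A)
  (hcen : ∀ (U : (Opens X)ᵒᵖ) (s : X.ringCatSheaf.obj.obj U) (a : A.obj.obj U),
      φ.hom.app U s * a = a * φ.hom.app U s)

include hcen in
theorem stHom_comm (x : X) (r : X.presheaf.stalk x) (b : rst (T := X.carrier) A x) :
    stHom φ x r * b = b * stHom φ x r := by
  obtain ⟨U, hU, s, rfl⟩ := TopCat.Presheaf.exists_germ_eq X.presheaf r
  obtain ⟨V, hV, t, rfl⟩ := exists_rgerm (T := X.carrier) b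
  have h1 : X.presheaf.germ (U ⊓ V) x ⟨hU, hV⟩ (X.presheaf.map (homOfLE inf_le_left).op s) =
      X.presheaf.germ U x hU s :=
    TopCat.Presheaf.germ_res_apply X.presheaf (homOfLE inf_le_left) x ⟨hU, hV⟩ s
  have h2 := rgerm_res (T := X.carrier) (A := A) (U := V) (V := U ⊓ V) (x := x) ⟨hU, hV⟩
    inf_le_right t
  rw [← h1, ← h2, stHom_germ]
  refine (map_mul (TopCat.Presheaf.germ (C := RingCat.{u}) (X := X.carrier) A.obj (U ⊓ V) x
    ⟨hU, hV⟩).hom _ _).symm.trans ?_
  refine Eq.trans ?_ (map_mul (TopCat.Presheaf.germ (C := RingCat.{u}) (X := X.carrier) A.obj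
    (U ⊓ V) x ⟨hU, hV⟩).hom _ _)
  exact congrArg _ (hcen _ _ _)

/-- The algebra structure on the stalk of the algebra. -/
noncomputable abbrev stAlg (x : X) : Algebra (X.presheaf.stalk x) (rst (T := X.carrier) A x) :=
  (stHom φ x).toAlgebra' (stHom_comm φ hcen x)

/-- The module structure of the local ring on the stalk of a module over the algebra. -/
noncomputable abbrev stMod (M : SheafOfModules.{u} A) (x : X) :
    Module (X.presheaf.stalk x) (mst (T := X.carrier) M x) :=
  FlatMod.moduleStalk (rs φ M) x

theorem isScalarTower (M : SheafOfModules.{u} A) (x : X) :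
    letI := stAlg φ hcen x
    letI := stMod φ M x
    IsScalarTower (X.presheaf.stalk x) (rst (T := X.carrier) A x) (mst (T := X.carrier) M x) := by
  let := stAlg φ hcen x
  let := stMod φ M x
  refine ⟨fun r b m => ?_⟩
  rw [Algebra.smul_def, mul_smul]
  exact (smul_eq φ M x r (b • m)).symm

/-- The stalk of the algebra as a module over the local ring. -/
noncomputable def unitEquivLocal (x : X) :
    letI := stAlg φ hcen x
    letI := stMod φ (SheafOfModules.unit A) x
    rst (T := X.carrier) A x ≃ₗ[X.presheaf.stalk x]
      mst (T := X.carrier) (SheafOfModules.unit A) x :=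
  letI := stAlg φ hcen x
  letI := stMod φ (SheafOfModules.unit A) x
  haveI := isScalarTower φ hcen (SheafOfModules.unit A) x
  (unitEquiv (T := X.carrier) A x).restrictScalars (X.presheaf.stalk x)

end Scheme

/-- Projectivity in towers. -/
theorem projective_trans (R B P : Type*) [CommRing R] [Ring B] [Algebra R B] [AddCommGroup P]
    [Module B P] [Module R P] [IsScalarTower R B P] [Module.Projective R B]
    [Module.Projective B P] : Module.Projective R P := by
  classical
  obtain ⟨s, hs⟩ := Module.projective_def'.mp (inferInstance : Module.Projective B P)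
  have : Module.Projective R (P →₀ B) :=
    Module.Projective.of_equiv (finsuppLequivDFinsupp (ι := P) (M := B) R).symm
  exact Module.Projective.of_split (s.restrictScalars R)
    ((Finsupp.linearCombination B (id : P → P)).restrictScalars R)
    (LinearMap.ext fun p => LinearMap.congr_fun hs p)

end K841.StalkUnit
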