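import Groth.Agent.OrdSurf.K841.SkyA
import Groth.Agent.OrdSurf.K841.StalkUnit
import Groth.Agent.OrdSurf.K841.ExtAlg
import Groth.Agent.CycB.StalkExact

/-!
# Stalks of the extension of scalars along a central map from the structure sheaf
-/

set_option autoImplicit false
universe u
open CategoryTheory CategoryTheory.Limits AlgebraicGeometry TopologicalSpace Opposite

namespace K841.ExtSheaf

open K841.StalkA K841.SkyA K841.StalkUnit K841.ExtAlg

variable {X : Scheme.{u}} {A : Sheaf (Opens.grothendieckTopology X) RingCat.{u}}
  {φ : X.ringCatSheaf ⟶ A}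

/-- The morphism to a skyscraper sheaf, over the structure sheaf. -/
noncomputable def toR {P : X.Modules} {x : X} {Q : Type u} [AddCommGroup Q]
    [Module (rst (T := X.carrier) A x) Q] (p : P.presheaf.stalk x →ₛₗ[stHom φ x] Q) :
    P ⟶ rs φ (sky (T := X.carrier) A x Q) where
  val :=
    { app := fun U => ModuleCat.ofHom
        (Y := ((SheafOfModules.restrictScalars φ).obj (sky (T := X.carrier) A x Q)).val.obj U)
        { toFun := fun s => (fun h => p (P.presheaf.germ U.unop x h.down s) :
            Sec (T := X.carrier) A x Q U.unop)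
          map_add' := fun s t => by
            refine (funext fun h => ?_ : (_ : Sec (T := X.carrier) A x Q U.unop) = _)
            exact (congrArg p (map_add (P.presheaf.germ U.unop x h.down).hom s t)).trans
              (map_add p _ _)
          map_smul' := fun r s => by
            refine (funext fun h => ?_ : (_ : Sec (T := X.carrier) A x Q U.unop) = _)
            refine (congrArg p (Groth.Agent.CycB.StalkExact.germ_smul (M := P) x h.down r s)).trans ?_
            refine (p.map_smulₛₗ _ _).trans ?_
            rw [stHom_germ]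
            rfl }
      naturality := fun {U V} f => by
        ext s
        refine (funext fun h => ?_ : (_ : Sec (T := X.carrier) A x Q V.unop) = _)
        exact congrArg p (TopCat.Presheaf.germ_res_apply P.presheaf f.unop x h.down s) }

theorem toR_apply {P : X.Modules} {x : X} {Q : Type u} [AddCommGroup Q]
    [Module (rst (T := X.carrier) A x) Q] (p : P.presheaf.stalk x →ₛₗ[stHom φ x] Q)
    (U : X.Opens) (s : P.val.obj (op U)) (h : PLift (x ∈ U)) :
    (((toR p).val.app (op U)).hom s : Sec (T := X.carrier) A x Q U) h =
      p (P.presheaf.germ U x h.down s) := rfl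

variable {L : SheafOfModules.{u} X.ringCatSheaf ⥤ SheafOfModules.{u} A}
  (adj : L ⊣ SheafOfModules.restrictScalars φ)

/-- The unit on stalks, as a semilinear map. -/
noncomputable def unitSt (P : X.Modules) (x : X) :
    P.presheaf.stalk x →ₛₗ[stHom φ x] mst (T := X.carrier) (L.obj P) x where
  toFun := Groth.Agent.CycB.StalkExact.stalkLin (N := rs φ (L.obj P)) (adj.unit.app P) x
  map_add' := map_add _
  map_smul' r m := by
    rw [map_smul]
    exact smul_eq φ (L.obj P) x r _

theorem unitSt_germ (P : X.Modules) {x : X} {U : X.Opens} (hx : x ∈ U) (s : P.val.obj (op U)) :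
    unitSt adj P x (P.presheaf.germ U x hx s) =
      mgerm (T := X.carrier) (L.obj P) hx (((adj.unit.app P).val.app (op U)).hom s) :=
  Groth.Agent.CycB.StalkExact.stalkLin_germ (N := rs φ (L.obj P)) (adj.unit.app P) x hx s

theorem isExt (P : X.Modules) (x : X) : IsExt (unitSt adj P x) where
  ex Q _ _ p := by
    let g0 : L.obj P ⟶ sky (T := X.carrier) A x Q := (adj.homEquiv P _).symm (toR p)
    refine ⟨ofSky (T := X.carrier) g0, fun m => ?_⟩
    obtain ⟨U, hU, s, rfl⟩ := TopCat.Presheaf.exists_germ_eq P.presheaf m
    rw [unitSt_germ, ofSky_mgerm]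
    have h1 : adj.unit.app P ≫ (SheafOfModules.restrictScalars φ).map g0 = toR p :=
      (Adjunction.homEquiv_unit adj P _ g0).symm.trans ((adj.homEquiv P _).apply_symm_apply _)
    have h2 := toR_apply p U s ⟨hU⟩
    rw [← h1] at h2
    exact h2
  uniq Q _ _ g g' h := by
    apply toSky_injective (T := X.carrier)
    apply (adj.homEquiv P _).injective
    rw [Adjunction.homEquiv_unit, Adjunction.homEquiv_unit]
    apply SheafOfModules.hom_ext
    apply PresheafOfModules.hom_ext
    intro U
    ext s
    refine (funext fun hx => ?_ : (_ : Sec (T := X.carrier) A x Q U.unop) = _)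
    have h1 := h (P.presheaf.germ U.unop x hx.down s)
    rw [unitSt_germ] at h1
    exact h1

variable (hcen : ∀ (U : (Opens X)ᵒᵖ) (s : X.ringCatSheaf.obj.obj U) (a : A.obj.obj U),
      φ.hom.app U s * a = a * φ.hom.app U s)

theorem unitSt_naturality {P P' : X.Modules} (f : P ⟶ P') (x : X) (m : P.presheaf.stalk x) :
    mapLin (T := X.carrier) (L.map f) x (unitSt adj P x m) =
      unitSt adj P' x (Groth.Agent.CycB.StalkExact.stalkLin f x m) := by
  obtain ⟨U, hU, s, rfl⟩ := TopCat.Presheaf.exists_germ_eq P.presheaf m
  rw [unitSt_germ, mapLin_mgerm]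
  refine Eq.trans ?_ (congrArg (unitSt adj P' x)
    (Groth.Agent.CycB.StalkExact.stalkLin_germ f x hU s).symm)
  refine Eq.trans ?_ (unitSt_germ adj P' hU _).symm
  have h1 := adj.unit.naturality f
  have h2 := congrArg (fun z : P ⟶ rs φ (L.obj P') => (z.val.app (op U)).hom s) h1
  exact congrArg (fun z => mgerm (T := X.carrier) (L.obj P') hU z) h2.symm

/-- Flatness of the stalks of the algebra. -/
theorem flat_stalk (hA : FlatMod.IsFlat (rs φ (SheafOfModules.unit A))) (x : X) :
    letI := alg (stHom_comm φ hcen x)
    Module.Flat (X.presheaf.stalk x) (rst (T := X.carrier) A x) := by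
  let := stAlg φ hcen x
  let := stMod φ (SheafOfModules.unit A) x
  have h1 : Module.Flat (X.presheaf.stalk x)
      (mst (T := X.carrier) (SheafOfModules.unit A) x) := hA x
  exact Module.Flat.of_linearEquiv (unitEquivLocal φ hcen x)

include hcen adj in
/-- Extension of scalars to a flat algebra preserves monomorphisms. -/
theorem preservesMono (hA : FlatMod.IsFlat (rs φ (SheafOfModules.unit A))) :
    L.PreservesMonomorphisms := by
  refine ⟨fun {P P'} f hf => ?_⟩
  have hf' : @Mono X.Modules _ P P' f := hf
  have hinj : ∀ x : X, Function.Injective (mapLin (T := X.carrier) (L.map f) x) := fun x =>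
    injective_of_flat (stHom_comm φ hcen x) (isExt adj P x) (isExt adj P' x)
      (flat_stalk hcen hA x) (Groth.Agent.CycB.StalkExact.stalkLin (M := P) (N := P') f x)
      (mapLin (T := X.carrier) (L.map f) x)
      (unitSt_naturality adj f x)
      (@Groth.Agent.CycB.StalkExact.stalkLin_injective X P P' f hf' x)
  refine mono_of_injective (T := X.carrier) (L.map f) fun U => ?_
  intro m n hmn
  refine section_ext (T := X.carrier) m n fun x hx => ?_
  apply hinj x
  rw [mapLin_mgerm, mapLin_mgerm, hmn]

include hcen adj in
/-- The extension of scalars of a flat module is flat, for a flat algebra. -/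
theorem isFlat_obj (hA : FlatMod.IsFlat (rs φ (SheafOfModules.unit A))) (P : X.Modules)
    (hP : FlatMod.IsFlat P) : FlatMod.IsFlat (rs φ (L.obj P)) := by
  intro x
  let : Module (X.presheaf.stalk x) (mst (T := X.carrier) (L.obj P) x) :=
    Module.compHom _ (stHom φ x)
  have h1 : Module.Flat (X.presheaf.stalk x) (mst (T := X.carrier) (L.obj P) x) :=
    flat (stHom_comm φ hcen x) (isExt adj P x) (flat_stalk hcen hA x) (hP x)
  let e : ((rs φ (L.obj P)).presheaf.stalk x) ≃ₗ[X.presheaf.stalk x]
      (mst (T := X.carrier) (L.obj P) x) :=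
    { toFun := fun m => m
      invFun := fun m => m
      left_inv := fun _ => rfl
      right_inv := fun _ => rfl
      map_add' := fun _ _ => rfl
      map_smul' := fun r m => smul_eq φ (L.obj P) x r m }
  exact Module.Flat.of_linearEquiv e

end K841.ExtSheaf
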