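import Groth.Agent.OrdSurf.K841.ExtFree
import Groth.Agent.Dcoh.FlatRes

/-!
# Flat covers of modules over a flat algebra
-/

set_option autoImplicit false
universe u
open CategoryTheory CategoryTheory.Limits AlgebraicGeometry TopologicalSpace Opposite

namespace K841.FlatCover

open K841.StalkA

variable {X : Scheme.{u}} {A : Sheaf (Opens.grothendieckTopology X) RingCat.{u}}
  (φ : X.ringCatSheaf ⟶ A)

theorem faithful : (SheafOfModules.restrictScalars.{u} φ).Faithful where
  map_injective {M N} f g h := by
    apply SheafOfModules.hom_ext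
    apply PresheafOfModules.hom_ext
    intro U
    ext m
    exact congrArg (fun z : rs φ M ⟶ rs φ N => (z.val.app U).hom m) h

theorem exists_flat_epi (hcen : ∀ (U : (Opens X)ᵒᵖ) (s : X.ringCatSheaf.obj.obj U) (a : A.obj.obj U),
      φ.hom.app U s * a = a * φ.hom.app U s)
    (hA : FlatMod.IsFlat (rs φ (SheafOfModules.unit A))) (M : SheafOfModules.{u} A) :
    ∃ (F : SheafOfModules.{u} A) (π : F ⟶ M), Epi π ∧ FlatMod.IsFlat (rs φ F) := by
  have h := K841.ExtFree.isRightAdjoint φ
  let adj := Adjunction.ofIsRightAdjoint (SheafOfModules.restrictScalars.{u} φ)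
  obtain ⟨P, p, hP, hp⟩ := Groth.Agent.Dcoh.FlatRes.exists_flat_epi (rs φ M)
  refine ⟨(SheafOfModules.restrictScalars.{u} φ).leftAdjoint.obj P, (adj.homEquiv P M).symm p, ?_,
    K841.ExtSheaf.isFlat_obj adj hcen hA P hP⟩
  have h1 : adj.unit.app P ≫ (SheafOfModules.restrictScalars φ).map ((adj.homEquiv P M).symm p) =
      p := (Adjunction.homEquiv_unit adj P _ _).symm.trans ((adj.homEquiv P _).apply_symm_apply _)
  have h2 : Epi (adj.unit.app P ≫ (SheafOfModules.restrictScalars φ).map
      ((adj.homEquiv P M).symm p)) := by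
    rw [h1]
    exact hp
  have h3 : Epi ((SheafOfModules.restrictScalars φ).map ((adj.homEquiv P M).symm p)) :=
    epi_of_epi (adj.unit.app P) _
  have := faithful φ
  exact (SheafOfModules.restrictScalars φ).epi_of_epi_map h3

end K841.FlatCover
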