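import Groth.Agent.OrdSurf.K841.InvEnd
import Groth.Agent.Ega2.TensMon
import Groth.Agent.Fdesc.LocGenTensor
import Groth.Prelude.Def_DDual2

/-!
# Translates of the sum over a Klein four-group of invertible modules
-/

set_option autoImplicit false
universe u v
open CategoryTheory CategoryTheory.Limits AlgebraicGeometry TopologicalSpace Opposite

namespace K841.Klein

section Cat

variable {C : Type u} [Category.{v} C] [Preadditive C] [HasBinaryBiproducts C]

theorem ne_zero_split {L A B : C} (i : L ⟶ A ⊞ B) (p : A ⊞ B ⟶ L) (h : i ≫ p ≠ 0) :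
    (i ≫ biprod.fst) ≫ (biprod.inl ≫ p) ≠ 0 ∨ (i ≫ biprod.snd) ≫ (biprod.inr ≫ p) ≠ 0 := by
  by_contra hcon
  push Not at hcon
  apply h
  have h1 : i ≫ p = i ≫ (biprod.fst ≫ biprod.inl + biprod.snd ≫ biprod.inr) ≫ p := by
    rw [biprod.total, Category.id_comp]
  rw [h1]
  simp only [Preadditive.add_comp, Preadditive.comp_add, Category.assoc]
  simp only [Category.assoc] at hcon
  rw [hcon.1, hcon.2, add_zero]

omit [Preadditive C] [HasBinaryBiproducts C] in
theorem retract_gen {D : Type*} [Category* D] (T : C ⥤ D) {A B : C} {L B' : D} (i : A ⟶ B)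
    (p : B ⟶ A) (h : i ≫ p = 𝟙 A) (u : T.obj A ≅ L) (e : T.obj B ≅ B') :
    ∃ (i' : L ⟶ B') (p' : B' ⟶ L), i' ≫ p' = 𝟙 L := by
  refine ⟨u.inv ≫ T.map i ≫ e.hom, e.inv ≫ T.map p ≫ u.hom, ?_⟩
  have h1 : T.map i ≫ T.map p = 𝟙 _ := by rw [← T.map_comp, h, T.map_id]
  simp [reassoc_of% h1]

/-- Rearrangement of four summands into two pairs. -/
noncomputable def pairs (A B D E : C) : A ⊞ B ⊞ D ⊞ E ≅ (A ⊞ B) ⊞ (D ⊞ E) :=
  (biprod.associator A B (D ⊞ E)).symm

end Cat

variable {X : Scheme.{u}}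

open Groth.Agent.Ega2.Tens

/-- Tensor products distribute over four summands. -/
noncomputable def distrib (A B D E L : X.Modules) :
    CohB1.tensorMod (A ⊞ B ⊞ D ⊞ E) L ≅
      CohB1.tensorMod A L ⊞ CohB1.tensorMod B L ⊞ CohB1.tensorMod D L ⊞ CohB1.tensorMod E L :=
  haveI : (DCoh.tensorRightMod L).Additive := inferInstance
  haveI : PreservesFiniteBiproducts (DCoh.tensorRightMod L) :=
    (DCoh.tensorRightMod L).preservesFiniteBiproductsOfAdditive
  haveI : PreservesBinaryBiproducts (DCoh.tensorRightMod L) :=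
    preservesBinaryBiproducts_of_preservesBiproducts _
  (DCoh.tensorRightMod L).mapBiprod A (B ⊞ D ⊞ E) ≪≫
    biprod.mapIso (Iso.refl _) ((DCoh.tensorRightMod L).mapBiprod B (D ⊞ E) ≪≫
      biprod.mapIso (Iso.refl _) ((DCoh.tensorRightMod L).mapBiprod D E))

variable (I J : X.Modules)

/-- The sum over the Klein four-group. -/
noncomputable abbrev F : X.Modules :=
  Coh.structureModule X ⊞ I ⊞ J ⊞ CohB1.tensorMod I J

variable {I J}

theorem of_eq {A B D E L : X.Modules}
    (a : CohB1.tensorMod (Coh.structureModule X) L ≅ A) (b : CohB1.tensorMod I L ≅ B)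
    (c : CohB1.tensorMod J L ≅ D) (d : CohB1.tensorMod (CohB1.tensorMod I J) L ≅ E)
    (e : (A ⊞ B) ⊞ (D ⊞ E) ≅ (Coh.structureModule X ⊞ I) ⊞ (J ⊞ CohB1.tensorMod I J)) :
    Nonempty (CohB1.tensorMod (F I J) L ≅ F I J) :=
  ⟨distrib _ _ _ _ L ≪≫ biprod.mapIso a (biprod.mapIso b (biprod.mapIso c d)) ≪≫
    pairs _ _ _ _ ≪≫ e ≪≫ (pairs _ _ _ _).symm⟩

/-- Translation by one of the four modules. -/
theorem translate (eI : CohB1.tensorMod I I ≅ Coh.structureModule X)
    (eJ : CohB1.tensorMod J J ≅ Coh.structureModule X) (L : X.Modules)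
    (h : Nonempty (L ≅ Coh.structureModule X) ∨ Nonempty (L ≅ I) ∨ Nonempty (L ≅ J) ∨
        Nonempty (L ≅ CohB1.tensorMod I J)) :
    Nonempty (CohB1.tensorMod (F I J) L ≅ F I J) := by
  have red : ∀ {L' : X.Modules} (_ : L ≅ L'),
      Nonempty (CohB1.tensorMod (F I J) L' ≅ F I J) →
      Nonempty (CohB1.tensorMod (F I J) L ≅ F I J) := by
    rintro L' g ⟨t⟩
    exact ⟨mapTIso (Iso.refl _) g ≪≫ t⟩
  -- `I ⊗ (I ⊗ J) ≅ J`
  let eIK : CohB1.tensorMod I (CohB1.tensorMod I J) ≅ J :=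
    (assoc I I J).symm ≪≫ mapTIso eI (Iso.refl J) ≪≫ lunit J
  let eJK : CohB1.tensorMod J (CohB1.tensorMod I J) ≅ I :=
    mapTIso (Iso.refl J) (swap I J) ≪≫ (assoc J J I).symm ≪≫ mapTIso eJ (Iso.refl I) ≪≫ lunit I
  let eKI : CohB1.tensorMod (CohB1.tensorMod I J) I ≅ J := swap _ _ ≪≫ eIK
  let eKJ : CohB1.tensorMod (CohB1.tensorMod I J) J ≅ I := swap _ _ ≪≫ eJK
  let eKK : CohB1.tensorMod (CohB1.tensorMod I J) (CohB1.tensorMod I J) ≅
      Coh.structureModule X :=
    assoc I J (CohB1.tensorMod I J) ≪≫ mapTIso (Iso.refl I) eJK ≪≫ eI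
  rcases h with h | h | h | h <;> obtain ⟨g⟩ := h
  · exact red g ⟨runit _⟩
  · exact red g (of_eq (lunit I) eI (swap J I) eKI
      (biprod.mapIso (biprod.braiding _ _) (biprod.braiding _ _)))
  · exact red g (of_eq (lunit J) (Iso.refl _) eJ eKJ (biprod.braiding _ _))
  · exact red g (of_eq (lunit _) eIK eJK eKK
      (biprod.braiding _ _ ≪≫ biprod.mapIso (biprod.braiding _ _) (biprod.braiding _ _)))

variable [IsIntegral X] {k : Type u} [Field k] (f : X ⟶ Spec (CommRingCat.of k)) [IsProper f]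

include f in
/-- The converse: the translate determines the class. -/
theorem mem_of_iso (hI : PicF.IsInvertible I) (hJ : PicF.IsInvertible J)
    {L : X.Modules} (hL : PicF.IsInvertible L) (e : CohB1.tensorMod (F I J) L ≅ F I J) :
    Nonempty (L ≅ Coh.structureModule X) ∨ Nonempty (L ≅ I) ∨ Nonempty (L ≅ J) ∨
        Nonempty (L ≅ CohB1.tensorMod I J) := by
  have hO : PicF.IsInvertible (Coh.structureModule X) :=
    Groth.Agent.Fdesc.LocGen.isInvertible_structureModule
  have hK := Groth.Agent.Fdesc.LocGen.isInvertible_tensorMod hI hJ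
  obtain ⟨i, p, h1⟩ : ∃ (i : L ⟶ F I J) (p : F I J ⟶ L), i ≫ p = 𝟙 L :=
    retract_gen (DCoh.tensorRightMod L) (biprod.inl : Coh.structureModule X ⟶ F I J) biprod.fst
      (by rw [biprod.inl_fst]) (lunit L) e
  have hne : i ≫ p ≠ 0 := by
    rw [h1]
    intro hz
    obtain ⟨t, ht⟩ := Groth.Agent.CycB.ModStalk.exists_isGen hL (genericPoint X)
    have h2 : ∀ m : L.presheaf.stalk (genericPoint X), m = 0 := fun m => by
      have h3 := LinearMap.congr_fun
        (Groth.Agent.CycB.StalkExact.stalkLin_id L (genericPoint X)) m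
      rw [hz] at h3
      refine h3.symm.trans ?_
      obtain ⟨U, hU, s, rfl⟩ := TopCat.Presheaf.exists_germ_eq L.presheaf m
      rw [Groth.Agent.CycB.StalkExact.stalkLin_germ]
      exact map_zero _
    have h4 : (1 : X.presheaf.stalk (genericPoint X)) = 0 :=
      ht.1 ((h2 _).trans (h2 _).symm)
    exact one_ne_zero h4
  rcases ne_zero_split i p hne with h | h
  · exact Or.inl (K841.InvEnd.exists_iso_of_comp_ne_zero f hL hO _ _ h)
  rcases ne_zero_split _ _ h with h | h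
  · exact Or.inr (Or.inl (K841.InvEnd.exists_iso_of_comp_ne_zero f hL hI _ _ h))
  rcases ne_zero_split _ _ h with h | h
  · exact Or.inr (Or.inr (Or.inl (K841.InvEnd.exists_iso_of_comp_ne_zero f hL hJ _ _ h)))
  · exact Or.inr (Or.inr (Or.inr (K841.InvEnd.exists_iso_of_comp_ne_zero f hL hK _ _ h)))

end K841.Klein
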