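import Groth.Agent.Divis.StalkMod
import Groth.Agent.CycB.StalkExact
import Mathlib.AlgebraicGeometry.FunctionField
import Groth.Prelude.Def_TorSh

/-!
# Sections of torsion-free quasi-coherent modules are determined by the generic germ
-/

set_option autoImplicit false
universe u
open CategoryTheory CategoryTheory.Limits AlgebraicGeometry TopologicalSpace Opposite

namespace K841.TorGen

variable {X : Scheme.{u}} [IsIntegral X]

/-- A section of a torsion-free quasi-coherent module over an affine open vanishes as soon as its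
germ at the generic point vanishes. -/
theorem germ_eq_zero_affine {M : X.Modules} (hM : Coh.IsQCoh M) (htf : TorSh.IsTorsionFree M)
    {U : X.Opens} (hU : IsAffineOpen U) (hη : genericPoint X ∈ U) (s : Γ(M, U))
    (h : M.presheaf.germ U (genericPoint X) hη s = 0) (x : X) (hx : x ∈ U) :
    M.presheaf.germ U x hx s = 0 := by
  have h1 : ∃ r : Γ(X, U), r ≠ 0 ∧ r • s = 0 := by
    refine Groth.Agent.Divis.StalkMod.stalk_elim M hM hU (genericPoint X) hη ?_
    intro _ _ _ _ l hl _ _
    have h2 : l s = 0 := by rw [hl, h]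
    rw [IsLocalizedModule.eq_zero_iff
      (hU.primeIdealOf ⟨genericPoint X, hη⟩).asIdeal.primeCompl l] at h2
    obtain ⟨c, hc⟩ := h2
    refine ⟨c.1, ?_, hc⟩
    intro h0
    exact c.2 (by rw [h0]; exact zero_mem _)
  obtain ⟨r, hr, hrs⟩ := h1
  have h2 : X.presheaf.germ U x hx r • M.presheaf.germ U x hx s = 0 := by
    rw [← Groth.Agent.CycB.StalkExact.germ_smul, hrs, map_zero]
  have h3 : X.presheaf.germ U x hx r ≠ 0 := by
    intro h4
    apply hr
    exact germ_injective_of_isIntegral X x hx (by rw [h4, map_zero])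
  have h5 := htf x
  exact (smul_eq_zero.mp h2).resolve_left h3

theorem germ_eq_zero {M : X.Modules} (hM : Coh.IsQCoh M) (htf : TorSh.IsTorsionFree M)
    {U : X.Opens} (hη : genericPoint X ∈ U) (s : Γ(M, U))
    (h : M.presheaf.germ U (genericPoint X) hη s = 0) (x : X) (hx : x ∈ U) :
    M.presheaf.germ U x hx s = 0 := by
  obtain ⟨V, hV, hxV, hVU⟩ := exists_isAffineOpen_mem_and_subset (x := x) (U := U) hx
  have hηV : genericPoint X ∈ V :=
    (genericPoint_spec X).mem_open_set_iff V.isOpen |>.mpr ⟨x, trivial, hxV⟩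
  have h1 := germ_eq_zero_affine hM htf hV hηV (M.presheaf.map (homOfLE hVU).op s)
    ((TopCat.Presheaf.germ_res_apply M.presheaf (homOfLE hVU) _ hηV s).trans h) x hxV
  exact (TopCat.Presheaf.germ_res_apply M.presheaf (homOfLE hVU) _ hxV s).symm.trans h1

/-- Sections of a torsion-free quasi-coherent module are determined by the generic germ. -/
theorem eq_zero {M : X.Modules} (hM : Coh.IsQCoh M) (htf : TorSh.IsTorsionFree M)
    {U : X.Opens} (s : Γ(M, U))
    (h : ∀ hη : genericPoint X ∈ U, M.presheaf.germ U (genericPoint X) hη s = 0) : s = 0 := by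
  refine TopCat.Presheaf.section_ext (C := AddCommGrpCat.{u}) (X := X.carrier)
    ⟨M.presheaf, M.isSheaf⟩ U s 0 fun x hx => ?_
  have hη : genericPoint X ∈ U :=
    (genericPoint_spec X).mem_open_set_iff U.isOpen |>.mpr ⟨x, trivial, hx⟩
  exact (germ_eq_zero hM htf hη s (h hη) x hx).trans (map_zero _).symm

end K841.TorGen
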