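import Groth.Agent.OrdSurf.K841.StalkA
import Groth.Agent.OrdSurf.K841.TorGen
import Mathlib.RingTheory.SimpleModule.Basic

/-!
# Nonzero maps of torsion-free modules with simple generic stalk are monomorphisms
-/

set_option autoImplicit false
universe u
open CategoryTheory CategoryTheory.Limits AlgebraicGeometry TopologicalSpace Opposite

namespace K841.Simple

open K841.StalkA

variable {X : Scheme.{u}} [IsIntegral X] {A : Sheaf (Opens.grothendieckTopology X) RingCat.{u}}
  (φ : X.ringCatSheaf ⟶ A)

/-- Sections of the module are determined by the generic germ. -/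
theorem eq_zero {M : SheafOfModules.{u} A} (hM : Coh.IsQCoh (rs φ M))
    (htf : TorSh.IsTorsionFree (rs φ M)) {U : X.Opens} (s : M.val.obj (op U))
    (h : ∀ hη : genericPoint X ∈ U, mgerm (T := X.carrier) M hη s = 0) : s = 0 :=
  K841.TorGen.eq_zero (M := rs φ M) hM htf s h

include φ in
theorem eq_zero_of_mapLin {M N : SheafOfModules.{u} A} (hN : Coh.IsQCoh (rs φ N))
    (htf : TorSh.IsTorsionFree (rs φ N)) (ψ : M ⟶ N)
    (h : mapLin (T := X.carrier) ψ (genericPoint X) = 0) : ψ = 0 := by
  apply SheafOfModules.hom_ext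
  apply PresheafOfModules.hom_ext
  intro U
  ext m
  refine (eq_zero φ hN htf (U := U.unop) (ψ.val.app U m) fun hη => ?_)
  rw [← mapLin_mgerm]
  exact LinearMap.congr_fun h _

/-- The main statement. -/
theorem mono {M N : SheafOfModules.{u} A} (hM : Coh.IsQCoh (rs φ M))
    (hMt : TorSh.IsTorsionFree (rs φ M)) (hN : Coh.IsQCoh (rs φ N))
    (hNt : TorSh.IsTorsionFree (rs φ N))
    (hMη : IsSimpleModule (rst (T := X.carrier) A (genericPoint X))
      (mst (T := X.carrier) M (genericPoint X)))
    (ψ : M ⟶ N) (hψ : ψ ≠ 0) : Mono ψ := by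
  refine mono_of_injective ψ fun U => ?_
  have h1 : Function.Injective (mapLin (T := X.carrier) ψ (genericPoint X)) :=
    (LinearMap.injective_or_eq_zero _).resolve_right fun h =>
      hψ (eq_zero_of_mapLin φ hN hNt ψ h)
  rw [injective_iff_map_eq_zero]
  intro m hm
  refine eq_zero φ hM hMt m fun hη => ?_
  apply h1
  rw [mapLin_mgerm, hm, map_zero]
  exact map_zero _

end K841.Simple
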