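import Groth.Agent.OrdSurf.K841.StalkA

/-!
# Skyscraper sheaves of modules over a sheaf of (noncommutative) rings
-/

set_option autoImplicit false
set_option linter.unusedVariables false
universe u
open CategoryTheory CategoryTheory.Limits AlgebraicGeometry TopologicalSpace Opposite

namespace K841.SkyA

open K841.StalkA

variable {T : TopCat.{u}} {A : Sheaf (Opens.grothendieckTopology T) RingCat.{u}}

/-- Sections over `U` of the skyscraper module. -/
def Sec (A : Sheaf (Opens.grothendieckTopology T) RingCat.{u}) (x : T) (Q : Type u)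
    [AddCommGroup Q] [Module (rst A x) Q] (U : Opens T) : Type u := PLift (x ∈ U) → Q

variable (x : T) (Q : Type u) [AddCommGroup Q] [Module (rst A x) Q]

noncomputable instance (U : Opens T) : AddCommGroup (Sec A x Q U) :=
  inferInstanceAs (AddCommGroup (PLift (x ∈ U) → Q))

/-- The ring map to the stalk. -/
noncomputable abbrev gHom (A : Sheaf (Opens.grothendieckTopology T) RingCat.{u}) {U : Opens T}
    {x : T} (hx : x ∈ U) : A.obj.obj (op U) →+* rst A x :=
  (TopCat.Presheaf.germ (C := RingCat.{u}) (X := T) A.obj U x hx).hom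

noncomputable instance (U : Opens T) : Module (A.obj.obj (op U)) (Sec A x Q U) where
  smul r s := fun h => gHom A h.down r • s h
  one_smul s := by
    funext h
    change gHom A h.down 1 • s h = s h
    rw [map_one, one_smul]
  mul_smul r r' s := by
    funext h
    change gHom A h.down (r * r') • s h = gHom A h.down r • gHom A h.down r' • s h
    rw [map_mul, mul_smul]
  smul_zero r := by
    funext h
    change gHom A h.down r • (0 : Q) = 0
    rw [smul_zero]
  smul_add r s t := by
    funext h
    change gHom A h.down r • (s h + t h) = gHom A h.down r • s h + gHom A h.down r • t h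
    rw [smul_add]
  add_smul r r' s := by
    funext h
    change gHom A h.down (r + r') • s h = gHom A h.down r • s h + gHom A h.down r' • s h
    rw [map_add, add_smul]
  zero_smul s := by
    funext h
    change gHom A h.down 0 • s h = 0
    rw [map_zero, zero_smul]

variable (A) in
/-- The abelian presheaf underlying the skyscraper module. -/
noncomputable def skyAb : TopCat.Presheaf AddCommGrpCat.{u} T where
  obj U := AddCommGrpCat.of (Sec A x Q U.unop)
  map {U V} i := AddCommGrpCat.ofHom
    { toFun := fun s h => s ⟨leOfHom i.unop h.down⟩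
      map_zero' := rfl
      map_add' := fun _ _ => rfl }
  map_id U := rfl
  map_comp f g := rfl

noncomputable instance (U : (Opens T)ᵒᵖ) : Module (A.obj.obj U) ((skyAb A x Q).obj U) :=
  inferInstanceAs (Module (A.obj.obj (op U.unop)) (Sec A x Q U.unop))

variable (A) in
/-- The presheaf of modules. -/
noncomputable def skyPre : PresheafOfModules.{u} A.obj :=
  PresheafOfModules.ofPresheaf (skyAb A x Q) (by
    intro U V f r m
    funext h
    change gHom A (leOfHom f.unop h.down) r • (m : Sec A x Q U.unop) ⟨leOfHom f.unop h.down⟩ =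
      gHom A h.down (A.obj.map f r) • (m : Sec A x Q U.unop) ⟨leOfHom f.unop h.down⟩
    congr 1
    exact (TopCat.Presheaf.germ_res_apply (X := T) A.obj f.unop x h.down r).symm)

theorem skyAb_isSheaf : Presheaf.IsSheaf (Opens.grothendieckTopology T) (skyAb A x Q) := by
  refine (TopCat.Presheaf.isSheaf_iff_isSheafUniqueGluing (skyAb A x Q)).mpr ?_
  intro ι U sf hsf
  have key : ∀ (i j : ι) (hi : x ∈ U i) (hj : x ∈ U j),
      (sf i : Sec A x Q (U i)) ⟨hi⟩ = (sf j : Sec A x Q (U j)) ⟨hj⟩ := fun i j hi hj =>
    congrFun (hsf i j : (_ : Sec A x Q (U i ⊓ U j)) = _) ⟨⟨hi, hj⟩⟩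
  refine ⟨(fun h => (sf (Opens.mem_iSup.mp h.down).choose : Sec A x Q _)
    ⟨(Opens.mem_iSup.mp h.down).choose_spec⟩ : Sec A x Q (iSup U)), ?_, ?_⟩
  · intro i
    refine (funext fun h => ?_ : (_ : Sec A x Q (U i)) = _)
    exact key _ _ _ h.down
  · intro t ht
    refine (funext fun h => ?_ : (_ : Sec A x Q (iSup U)) = _)
    exact congrFun (ht (Opens.mem_iSup.mp h.down).choose : (_ : Sec A x Q _) = _)
      ⟨(Opens.mem_iSup.mp h.down).choose_spec⟩

variable (A) in
/-- The skyscraper module. -/
noncomputable def sky : SheafOfModules.{u} A := ⟨skyPre A x Q, skyAb_isSheaf x Q⟩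

variable {x Q}

/-- The morphism to the skyscraper given by a linear map out of the stalk. -/
noncomputable def toSky {N : SheafOfModules.{u} A} (g : mst N x →ₗ[rst A x] Q) : N ⟶ sky A x Q where
  val :=
    { app := fun U => ModuleCat.ofHom
        { toFun := fun s => (fun h => g (mgerm N h.down s) : Sec A x Q U.unop)
          map_add' := fun s t => by
            refine (funext fun h => ?_ : (_ : Sec A x Q U.unop) = _)
            exact (congrArg g ((TopCat.Presheaf.germ (C := AddCommGrpCat.{u}) (X := T)
              N.val.presheaf U.unop x h.down).hom.map_add s t)).trans (g.map_add _ _)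
          map_smul' := fun r s => by
            refine (funext fun h => ?_ : (_ : Sec A x Q U.unop) = _)
            refine (congrArg g (mgerm_smul N h.down r s)).trans ?_
            exact g.map_smul _ _ }
      naturality := fun {U V} f => by
        ext s
        refine (funext fun h => ?_ : (_ : Sec A x Q V.unop) = _)
        exact congrArg g (mgerm_res N h.down (leOfHom f.unop) s) }

theorem toSky_apply {N : SheafOfModules.{u} A} (g : mst N x →ₗ[rst A x] Q) (U : Opens T)
    (s : N.val.obj (op U)) (h : PLift (x ∈ U)) :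
    (((toSky g).val.app (op U)).hom s : Sec A x Q U) h = g (mgerm N h.down s) := rfl

theorem toSky_injective {N : SheafOfModules.{u} A} {g g' : mst N x →ₗ[rst A x] Q}
    (h : toSky g = toSky g') : g = g' := by
  ext m
  obtain ⟨U, hU, s, rfl⟩ := exists_mgerm N m
  have h1 := congrFun (congrArg (fun z : N ⟶ sky A x Q =>
    ((z.val.app (op U)).hom s : Sec A x Q U)) h) ⟨hU⟩
  exact h1

/-- Evaluation of the stalk of the skyscraper. -/
noncomputable def evSky : mst (sky A x Q) x →ₗ[rst A x] Q where
  toFun := AddCommGrpCat.Hom.hom (X := mst (sky A x Q) x) (Y := AddCommGrpCat.of Q)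
    (colimit.desc ((OpenNhds.inclusion x).op ⋙ (sky A x Q).val.presheaf)
    (Cocone.mk (AddCommGrpCat.of Q)
      { app := fun U => AddCommGrpCat.ofHom (Pi.evalAddMonoidHom (fun _ : PLift (x ∈ U.unop.1) => Q)
          ⟨U.unop.2⟩)
        naturality := fun U V i => rfl }))
  map_add' := map_add _
  map_smul' b m := by
    obtain ⟨U, hU, s, t, rfl, rfl⟩ := exists_rgerm_mgerm (sky A x Q) b m
    rw [← mgerm_smul, RingHom.id_apply]
    have h : ∀ t : (sky A x Q).val.obj (op U), (AddCommGrpCat.Hom.hom (X := mst (sky A x Q) x)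
        (Y := AddCommGrpCat.of Q)
      (colimit.desc ((OpenNhds.inclusion x).op ⋙ (sky A x Q).val.presheaf)
      (Cocone.mk (AddCommGrpCat.of Q)
      { app := fun U => AddCommGrpCat.ofHom (Pi.evalAddMonoidHom (fun _ : PLift (x ∈ U.unop.1) => Q)
          ⟨U.unop.2⟩)
        naturality := fun U V i => rfl }))) (mgerm (sky A x Q) hU t) = (t : Sec A x Q U) ⟨hU⟩ := by
      intro t
      exact ConcreteCategory.congr_hom (colimit.ι_desc
        (F := (OpenNhds.inclusion x).op ⋙ (sky A x Q).val.presheaf)
        (Cocone.mk (AddCommGrpCat.of Q)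
        { app := fun U => AddCommGrpCat.ofHom
            (Pi.evalAddMonoidHom (fun _ : PLift (x ∈ U.unop.1) => Q) ⟨U.unop.2⟩)
          naturality := fun U V i => rfl }) (op ⟨U, hU⟩)) t
    rw [h, h]
    rfl

theorem evSky_mgerm (U : Opens T) (hU : x ∈ U) (t : (sky A x Q).val.obj (op U)) :
    evSky (mgerm (sky A x Q) hU t) = (t : Sec A x Q U) ⟨hU⟩ :=
  ConcreteCategory.congr_hom (colimit.ι_desc
        (F := (OpenNhds.inclusion x).op ⋙ (sky A x Q).val.presheaf)
        (Cocone.mk (AddCommGrpCat.of Q)
        { app := fun U => AddCommGrpCat.ofHom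
            (Pi.evalAddMonoidHom (fun _ : PLift (x ∈ U.unop.1) => Q) ⟨U.unop.2⟩)
          naturality := fun U V i => rfl }) (op ⟨U, hU⟩)) t

/-- The linear map out of the stalk given by a morphism to the skyscraper. -/
noncomputable def ofSky {N : SheafOfModules.{u} A} (g : N ⟶ sky A x Q) :
    mst N x →ₗ[rst A x] Q := evSky.comp (mapLin g x)

theorem ofSky_mgerm {N : SheafOfModules.{u} A} (g : N ⟶ sky A x Q) (U : Opens T) (hU : x ∈ U)
    (s : N.val.obj (op U)) : ofSky g (mgerm N hU s) = ((g.val.app (op U)).hom s : Sec A x Q U) ⟨hU⟩ := by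
  rw [ofSky, LinearMap.comp_apply, mapLin_mgerm, evSky_mgerm]

end K841.SkyA
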