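import Groth.Prelude.Def_TorSh
import Mathlib.Algebra.Category.ModuleCat.Sheaf.ChangeOfRings
import Mathlib.Algebra.Category.ModuleCat.Stalk

/-!
# Stalks of sheaves of modules over a sheaf of (noncommutative) rings on a space
-/

set_option autoImplicit false
universe u
open CategoryTheory CategoryTheory.Limits AlgebraicGeometry TopologicalSpace Opposite

namespace K841.StalkA

section Top

variable {T : TopCat.{u}} {A : Sheaf (Opens.grothendieckTopology T) RingCat.{u}}

/-- The stalk of the ring sheaf. -/
noncomputable abbrev rst (A : Sheaf (Opens.grothendieckTopology T) RingCat.{u}) (x : T) :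
    RingCat.{u} :=
  TopCat.Presheaf.stalk (C := RingCat.{u}) (X := T) A.obj x

/-- The stalk of a module. -/
noncomputable abbrev mst (M : SheafOfModules.{u} A) (x : T) : AddCommGrpCat.{u} :=
  TopCat.Presheaf.stalk (C := AddCommGrpCat.{u}) (X := T) M.val.presheaf x

/-- The germ of a section of the ring. -/
noncomputable abbrev rgerm (A : Sheaf (Opens.grothendieckTopology T) RingCat.{u})
    {U : Opens T} {x : T} (hx : x ∈ U) (a : A.obj.obj (op U)) : rst A x :=
  TopCat.Presheaf.germ (C := RingCat.{u}) (X := T) A.obj U x hx a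

/-- The germ of a section of a module. -/
noncomputable abbrev mgerm (M : SheafOfModules.{u} A)
    {U : Opens T} {x : T} (hx : x ∈ U) (m : M.val.obj (op U)) : mst M x :=
  TopCat.Presheaf.germ (C := AddCommGrpCat.{u}) (X := T) M.val.presheaf U x hx m

variable (M : SheafOfModules.{u} A)

theorem mgerm_smul {U : Opens T} {x : T} (hx : x ∈ U) (a : A.obj.obj (op U))
    (m : M.val.obj (op U)) : mgerm M hx (a • m) = rgerm A hx a • mgerm M hx m :=
  PresheafOfModules.germ_ringCat_smul (X := T) M.val x U hx a m

theorem exists_mgerm {x : T} (m : mst M x) :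
    ∃ (U : Opens T) (hx : x ∈ U) (s : M.val.obj (op U)), mgerm M hx s = m :=
  TopCat.Presheaf.exists_germ_eq (X := T) M.val.presheaf m

theorem exists_rgerm {x : T} (a : rst A x) :
    ∃ (U : Opens T) (hx : x ∈ U) (s : A.obj.obj (op U)), rgerm A hx s = a :=
  TopCat.Presheaf.exists_germ_eq (X := T) A.obj a

theorem mgerm_res {U V : Opens T} {x : T} (hx : x ∈ V) (i : V ≤ U) (m : M.val.obj (op U)) :
    mgerm M hx (M.val.presheaf.map (homOfLE i).op m) = mgerm M (i hx) m :=
  TopCat.Presheaf.germ_res_apply (X := T) M.val.presheaf (homOfLE i) x hx m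

theorem rgerm_res {U V : Opens T} {x : T} (hx : x ∈ V) (i : V ≤ U) (m : A.obj.obj (op U)) :
    rgerm A hx (A.obj.map (homOfLE i).op m) = rgerm A (i hx) m :=
  TopCat.Presheaf.germ_res_apply (X := T) A.obj (homOfLE i) x hx m

/-- Elements of stalks of `A` and `M` are represented over a common open set. -/
theorem exists_rgerm_mgerm {x : T} (a : rst A x) (m : mst M x) :
    ∃ (U : Opens T) (hx : x ∈ U) (s : A.obj.obj (op U)) (t : M.val.obj (op U)),
      rgerm A hx s = a ∧ mgerm M hx t = m := by
  obtain ⟨U, hU, s, rfl⟩ := exists_rgerm a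
  obtain ⟨V, hV, t, rfl⟩ := exists_mgerm M m
  refine ⟨U ⊓ V, ⟨hU, hV⟩, A.obj.map (homOfLE inf_le_left).op s,
    M.val.presheaf.map (homOfLE inf_le_right).op t, ?_, ?_⟩
  · exact rgerm_res _ inf_le_left s
  · exact mgerm_res M _ inf_le_right t

variable {M} {N : SheafOfModules.{u} A}

/-- The underlying additive map on stalks. -/
noncomputable def mapAdd (ψ : M ⟶ N) (x : T) : mst M x →+ mst N x :=
  AddCommGrpCat.Hom.hom ((TopCat.Presheaf.stalkFunctor AddCommGrpCat.{u} x).map
    ((PresheafOfModules.toPresheaf A.obj).map ψ.val))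

theorem mapAdd_mgerm (ψ : M ⟶ N) {U : Opens T} {x : T} (hx : x ∈ U) (m : M.val.obj (op U)) :
    mapAdd ψ x (mgerm M hx m) = mgerm N hx (ψ.val.app (op U) m) :=
  TopCat.Presheaf.stalkFunctor_map_germ_apply (X := T) U x hx
    ((PresheafOfModules.toPresheaf A.obj).map ψ.val) m

/-- The map induced on stalks is linear. -/
noncomputable def mapLin (ψ : M ⟶ N) (x : T) : mst M x →ₗ[rst A x] mst N x where
  toFun := mapAdd ψ x
  map_add' := map_add _
  map_smul' a m := by
    obtain ⟨U, hx, s, t, rfl, rfl⟩ := exists_rgerm_mgerm M a m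
    rw [← mgerm_smul, mapAdd_mgerm, map_smul, mgerm_smul, RingHom.id_apply, mapAdd_mgerm]

theorem mapLin_mgerm (ψ : M ⟶ N) {U : Opens T} {x : T} (hx : x ∈ U) (m : M.val.obj (op U)) :
    mapLin ψ x (mgerm M hx m) = mgerm N hx (ψ.val.app (op U) m) :=
  mapAdd_mgerm ψ hx m

/-- Sections of a sheaf of modules are determined by their germs. -/
theorem section_ext {U : Opens T} (m n : M.val.obj (op U))
    (h : ∀ (x : T) (hx : x ∈ U), mgerm M hx m = mgerm M hx n) : m = n :=
  TopCat.Presheaf.section_ext (C := AddCommGrpCat.{u}) (X := T)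
    ⟨M.val.presheaf, M.isSheaf⟩ U m n fun x hx => h x hx

/-- A map which is injective on sections is a monomorphism. -/
theorem mono_of_injective (ψ : M ⟶ N) (h : ∀ U : Opens T, Function.Injective (ψ.val.app (op U))) :
    Mono ψ := by
  have : Mono ((SheafOfModules.forget A).map ψ) :=
    PresheafOfModules.mono_of_injective fun U => h U.unop
  exact (SheafOfModules.forget A).mono_of_mono_map this

end Top

section Scheme

variable {X : Scheme.{u}} {A : Sheaf (Opens.grothendieckTopology X) RingCat.{u}}
  (φ : X.ringCatSheaf ⟶ A)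

/-- Restriction of scalars. -/
noncomputable abbrev rs (M : SheafOfModules.{u} A) : X.Modules :=
  (SheafOfModules.restrictScalars φ).obj M

/-- The ring map on stalks, as a morphism. -/
noncomputable def stHomCat (x : X) :
    (forget₂ CommRingCat.{u} RingCat.{u}).obj (X.presheaf.stalk x) ⟶ rst (T := X.carrier) A x :=
  (isColimitOfPreserves (forget₂ CommRingCat.{u} RingCat.{u})
    (colimit.isColimit ((OpenNhds.inclusion x).op ⋙ X.presheaf))).desc
    { pt := rst (T := X.carrier) A x
      ι :=
        { app := fun U => φ.hom.app (op ((OpenNhds.inclusion x).obj U.unop)) ≫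
            TopCat.Presheaf.germ (C := RingCat.{u}) (X := X.carrier) A.obj
              ((OpenNhds.inclusion x).obj U.unop) x U.unop.2
          naturality := fun U V i => by
            have h1 := φ.hom.naturality ((OpenNhds.inclusion x).op.map i)
            have h2 := TopCat.Presheaf.germ_res (C := RingCat.{u}) (X := X.carrier) A.obj
              ((OpenNhds.inclusion x).map i.unop) x V.unop.2
            refine ((reassoc_of% h1) _).trans ?_
            refine (congrArg (fun z => φ.hom.app _ ≫ z) h2).trans ?_
            exact (Category.comp_id _).symm } }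

/-- The ring map on stalks. -/
noncomputable def stHom (x : X) : X.presheaf.stalk x →+* rst (T := X.carrier) A x :=
  RingCat.Hom.hom (stHomCat φ x)

theorem stHom_germ {U : X.Opens} {x : X} (hx : x ∈ U) (r : Γ(X, U)) :
    stHom φ x (X.presheaf.germ U x hx r) = rgerm (T := X.carrier) A hx (φ.hom.app (op U) r) := by
  have h := (isColimitOfPreserves (forget₂ CommRingCat.{u} RingCat.{u})
    (colimit.isColimit ((OpenNhds.inclusion x).op ⋙ X.presheaf))).fac
    (s := { pt := rst (T := X.carrier) A x
            ι :=
        { app := fun U => φ.hom.app (op ((OpenNhds.inclusion x).obj U.unop)) ≫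
            TopCat.Presheaf.germ (C := RingCat.{u}) (X := X.carrier) A.obj
              ((OpenNhds.inclusion x).obj U.unop) x U.unop.2
          naturality := fun U V i => by
            have h1 := φ.hom.naturality ((OpenNhds.inclusion x).op.map i)
            have h2 := TopCat.Presheaf.germ_res (C := RingCat.{u}) (X := X.carrier) A.obj
              ((OpenNhds.inclusion x).map i.unop) x V.unop.2
            refine ((reassoc_of% h1) _).trans ?_
            refine (congrArg (fun z => φ.hom.app _ ≫ z) h2).trans ?_
            exact (Category.comp_id _).symm } }) (op ⟨U, hx⟩)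
  exact ConcreteCategory.congr_hom h r

variable (M : SheafOfModules.{u} A)

/-- The action of the local ring of the scheme on the stalk of a module comes from the action of the
stalk of the ring sheaf. -/
theorem smul_eq (x : X) (r : X.presheaf.stalk x) (m : (rs φ M).presheaf.stalk x) :
    r • m = (stHom φ x r • (show mst (T := X.carrier) M x from m) : mst (T := X.carrier) M x) := by
  obtain ⟨U, hU, s, rfl⟩ := TopCat.Presheaf.exists_germ_eq X.presheaf r
  obtain ⟨V, hV, t, rfl⟩ := TopCat.Presheaf.exists_germ_eq (rs φ M).presheaf m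
  have h1 : X.presheaf.germ (U ⊓ V) x ⟨hU, hV⟩ (X.presheaf.map (homOfLE inf_le_left).op s) =
      X.presheaf.germ U x hU s :=
    TopCat.Presheaf.germ_res_apply X.presheaf (homOfLE inf_le_left) x ⟨hU, hV⟩ s
  have h2 : (rs φ M).presheaf.germ (U ⊓ V) x ⟨hU, hV⟩
      ((rs φ M).presheaf.map (homOfLE inf_le_right).op t) = (rs φ M).presheaf.germ V x hV t :=
    TopCat.Presheaf.germ_res_apply (rs φ M).presheaf (homOfLE inf_le_right) x ⟨hU, hV⟩ t
  rw [← h1, ← h2, stHom_germ]
  refine Eq.trans ?_ (mgerm_smul (T := X.carrier) M (U := U ⊓ V) (x := x) ⟨hU, hV⟩ _ _)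
  exact (PresheafOfModules.germ_smul (X := X.carrier) (R := X.presheaf) (rs φ M).val x (U ⊓ V)
    ⟨hU, hV⟩ _ _).symm

end Scheme

end K841.StalkA
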